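import Mathlib

/-!
# Lemma LITE

Elementary part of Aschbacher's strong embedding criterion: `G` acts on `Ω`, `D` is a conjugation
invariant set of involutions each fixing exactly one point, and for commuting `d ≠ e` in `D` the
centralizer of `d * e` fixes the point of `d`. Then every involution with exactly one fixed point
lies in `D`.
-/

set_option autoImplicit false

namespace Cfsg.Agent.R15.Lite

/-- Working hypotheses. -/
structure Hyp {G Ω : Type*} [Group G] [MulAction G Ω] (D : Set G) (p : G → Ω) : Prop where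
  sq : ∀ d ∈ D, d * d = 1
  ne : ∀ d ∈ D, d ≠ 1
  conj : ∀ d ∈ D, ∀ g : G, g * d * g⁻¹ ∈ D
  fix : ∀ d ∈ D, ∀ a : Ω, d • a = a ↔ a = p d
  cent : ∀ d ∈ D, ∀ e ∈ D, d ≠ e → d * e = e * d → ∀ g : G, g * (d * e) = (d * e) * g →
    g • p d = p d

/-- Two square roots of odd order of the same element are equal. -/
theorem eq_of_sq_eq_of_odd {G : Type*} [Group G] {x y : G} (hx : Odd (orderOf x))
    (hy : Odd (orderOf y)) (h : x ^ 2 = y ^ 2) : x = y := by
  obtain ⟨k, hk⟩ := hx.mul hy
  have h1 : x ^ (orderOf x * orderOf y) = 1 := by rw [pow_mul, pow_orderOf_eq_one, one_pow]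
  have h2 : y ^ (orderOf x * orderOf y) = 1 := by
    rw [mul_comm, pow_mul, pow_orderOf_eq_one, one_pow]
  have e1 : x = (x ^ 2) ^ (k + 1) := by
    rw [← pow_mul, show 2 * (k + 1) = (2 * k + 1) + 1 by ring, ← hk, pow_succ, h1, one_mul]
  have e2 : y = (y ^ 2) ^ (k + 1) := by
    rw [← pow_mul, show 2 * (k + 1) = (2 * k + 1) + 1 by ring, ← hk, pow_succ, h2, one_mul]
  rw [e1, e2, h]

section

variable {G Ω : Type*} [Group G] [MulAction G Ω] {D : Set G} {p : G → Ω} (H : Hyp D p)

include H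

theorem inv_eq {d : G} (hd : d ∈ D) : d⁻¹ = d := inv_eq_of_mul_eq_one_left (H.sq d hd)

theorem p_conj {d : G} (hd : d ∈ D) (g : G) : p (g * d * g⁻¹) = g • p d := by
  symm
  rw [← H.fix _ (H.conj d hd g), mul_smul, mul_smul, inv_smul_smul, (H.fix d hd _).2 rfl]

theorem p_eq_of_comm {d : G} (hd : d ∈ D) {g : G} (h : g * d = d * g) : g • p d = p d := by
  rw [← p_conj H hd g]
  congr 1
  rw [h, mul_inv_cancel_right]

theorem semiconj {d e : G} (hd : d ∈ D) (he : e ∈ D) : SemiconjBy d (d * e) (d * e)⁻¹ := by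
  show d * (d * e) = (d * e)⁻¹ * d
  rw [← mul_assoc, H.sq d hd, one_mul, mul_inv_rev, inv_eq H hd, inv_eq H he, mul_assoc,
    H.sq d hd, mul_one]

theorem mul_pow_eq {d e : G} (hd : d ∈ D) (he : e ∈ D) (m : ℕ) :
    d * (d * e) ^ m = ((d * e) ^ m)⁻¹ * d := by
  have h := (semiconj H hd he).pow_right m
  rw [inv_pow] at h
  exact h

/-- `d ρ^(2l)` is a conjugate of `d`. -/
theorem mul_pow_even_mem {d e : G} (hd : d ∈ D) (he : e ∈ D) (l : ℕ) :
    d * (d * e) ^ (2 * l) ∈ D := by
  have h := H.conj d hd ((d * e) ^ l)⁻¹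
  have e1 : ((d * e) ^ l)⁻¹ * d * ((d * e) ^ l)⁻¹⁻¹ = d * (d * e) ^ (2 * l) := by
    rw [inv_inv, ← mul_pow_eq H hd he, mul_assoc, ← pow_add, two_mul]
  rwa [e1] at h

/-- `d ρ^(2l+1)` is a conjugate of `e`. -/
theorem mul_pow_odd_mem {d e : G} (hd : d ∈ D) (he : e ∈ D) (l : ℕ) :
    d * (d * e) ^ (2 * l + 1) ∈ D := by
  have h := H.conj e he ((d * e) ^ l)⁻¹
  have e0 : e = d * (d * e) := by rw [← mul_assoc, H.sq d hd, one_mul]
  have e1 : ((d * e) ^ l)⁻¹ * e * ((d * e) ^ l)⁻¹⁻¹ = d * (d * e) ^ (2 * l + 1) := by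
    rw [inv_inv]
    calc ((d * e) ^ l)⁻¹ * e * (d * e) ^ l = ((d * e) ^ l)⁻¹ * (d * (d * e)) * (d * e) ^ l := by
          rw [← e0]
      _ = (((d * e) ^ l)⁻¹ * d) * ((d * e) * (d * e) ^ l) := by simp only [mul_assoc]
      _ = _ := by
          rw [← mul_pow_eq H hd he, mul_assoc, ← pow_succ', ← pow_add]
          congr 2
          ring
  rwa [e1] at h

theorem mul_pow_mem {d e : G} (hd : d ∈ D) (he : e ∈ D) (m : ℕ) : d * (d * e) ^ m ∈ D := by
  obtain ⟨l, rfl | rfl⟩ := Nat.even_or_odd' m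
  · exact mul_pow_even_mem H hd he l
  · exact mul_pow_odd_mem H hd he l

/-- Elements of `D` fixing different points have a product of odd order. -/
theorem odd_orderOf [Finite G] {d e : G} (hd : d ∈ D) (he : e ∈ D) (hne : p d ≠ p e) :
    Odd (orderOf (d * e)) := by
  by_contra hodd
  rw [Nat.not_odd_iff_even] at hodd
  obtain ⟨k, hk⟩ := hodd
  have hpos : 0 < orderOf (d * e) := orderOf_pos _
  have hk0 : 0 < k := by omega
  set ρ := d * e with hρ
  have huu : ρ ^ k * ρ ^ k = 1 := by rw [← pow_add, ← hk, pow_orderOf_eq_one]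
  have hui : (ρ ^ k)⁻¹ = ρ ^ k := inv_eq_of_mul_eq_one_left huu
  have hu1 : ρ ^ k ≠ 1 := by
    intro h
    have := orderOf_dvd_of_pow_eq_one h
    have := Nat.le_of_dvd hk0 this
    omega
  have hdu : d * ρ ^ k = ρ ^ k * d := by
    rw [hρ, mul_pow_eq H hd he, ← hρ, hui]
  have heu : e * ρ ^ k = ρ ^ k * e := by
    have e0 : e = d * ρ := by rw [hρ, ← mul_assoc, H.sq d hd, one_mul]
    have hc : ρ * ρ ^ k = ρ ^ k * ρ := by rw [← pow_succ', ← pow_succ]
    rw [e0, mul_assoc, hc, ← mul_assoc, hdu, mul_assoc]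
  have hmem : d * ρ ^ k ∈ D := mul_pow_mem H hd he k
  have hprod : d * (d * ρ ^ k) = ρ ^ k := by rw [← mul_assoc, H.sq d hd, one_mul]
  have h1 : d ≠ d * ρ ^ k := by
    intro h
    exact hu1 (by simpa using h.symm)
  have h2 : d * (d * ρ ^ k) = (d * ρ ^ k) * d := by
    rw [hdu, mul_assoc, H.sq d hd, mul_one, ← hdu, hprod]
  have h3 := H.cent d hd _ hmem h1 h2 e (by rw [hprod, heu])
  exact hne ((H.fix e he _).1 h3)

/-- Existence of a swap. -/
theorem exists_swap [Finite G] {d : G} (hd : d ∈ D) {g : G} (hg : g • p d ≠ p d) :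
    ∃ x ∈ D, x * d * x⁻¹ = g * d * g⁻¹ := by
  set e := g * d * g⁻¹ with he
  have heD : e ∈ D := H.conj d hd g
  have hpe : p e = g • p d := p_conj H hd g
  obtain ⟨n, hn⟩ := odd_orderOf H hd heD (by rw [hpe]; exact fun h => hg h.symm)
  refine ⟨d * (d * e) ^ (n + 1), mul_pow_mem H hd heD _, ?_⟩
  have hx : d * (d * e) ^ (n + 1) ∈ D := mul_pow_mem H hd heD _
  rw [inv_eq H hx]
  calc d * (d * e) ^ (n + 1) * d * (d * (d * e) ^ (n + 1))
      = d * (d * e) ^ (n + 1) * (d * d) * (d * e) ^ (n + 1) := by group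
    _ = d * ((d * e) ^ (n + 1) * (d * e) ^ (n + 1)) := by rw [H.sq d hd, mul_one, mul_assoc]
    _ = d * (d * e) := by
        congr 1
        rw [← pow_add, show n + 1 + (n + 1) = (2 * n + 1) + 1 by ring, ← hn, pow_succ,
          pow_orderOf_eq_one, one_mul]
    _ = e := by rw [← mul_assoc, H.sq d hd, one_mul]

/-- Uniqueness of a swap. -/
theorem swap_unique [Finite G] {d x y : G} (hd : d ∈ D) (hx : x ∈ D) (hy : y ∈ D)
    (hxd : x • p d ≠ p d) (hyd : y • p d ≠ p d) (h : x * d * x⁻¹ = y * d * y⁻¹) : x = y := by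
  have h1 : Odd (orderOf (d * x)) := odd_orderOf H hd hx fun h0 =>
    hxd ((H.fix x hx _).2 h0)
  have h2 : Odd (orderOf (d * y)) := odd_orderOf H hd hy fun h0 =>
    hyd ((H.fix y hy _).2 h0)
  have h3 : (d * x) ^ 2 = (d * y) ^ 2 := by
    rw [inv_eq H hx, inv_eq H hy] at h
    calc (d * x) ^ 2 = d * (x * d * x) := by rw [pow_two]; group
      _ = d * (y * d * y) := by rw [h]
      _ = (d * y) ^ 2 := by rw [pow_two]; group
  exact mul_left_cancel (eq_of_sq_eq_of_odd h1 h2 h3)

/-- An involution moving the point of `d` commutes with the swap. -/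
theorem exists_commuting_swap [Finite G] {d : G} (hd : d ∈ D) {u : G} (hu : u * u = 1)
    (hud : u • p d ≠ p d) :
    ∃ x ∈ D, x * u = u * x ∧ (u * x) * d = d * (u * x) ∧ x • p d ≠ p d := by
  obtain ⟨x, hx, hxe⟩ := exists_swap H hd hud
  have hui : u⁻¹ = u := inv_eq_of_mul_eq_one_left hu
  have hxp : x • p d = u • p d := by rw [← p_conj H hd x, hxe, p_conj H hd u]
  have hxd : x • p d ≠ p d := by rw [hxp]; exact hud
  have hx' : u * x * u⁻¹ ∈ D := H.conj x hx u
  -- the conjugate of `x` by `u` does the same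
  have hxx : x * d * x = u * d * u := by rwa [inv_eq H hx, hui] at hxe
  have hux : x * (u * d * u) * x = d := by
    rw [← hxx]
    calc x * (x * d * x) * x = (x * x) * d * (x * x) := by group
      _ = d := by rw [H.sq x hx, one_mul, mul_one]
  have hconj : (u * x * u⁻¹) * d * (u * x * u⁻¹)⁻¹ = x * d * x⁻¹ := by
    rw [inv_eq H hx', hui, inv_eq H hx]
    calc u * x * u * d * (u * x * u) = u * (x * (u * d * u) * x) * u := by group
      _ = u * d * u := by rw [hux]
      _ = x * d * x := hxx.symm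
  have hpu : (u * x * u⁻¹) • p d ≠ p d := by
    have := p_conj H hd (u * x * u⁻¹)
    rw [hconj, p_conj H hd x] at this
    rw [← this]; exact hxd
  have hEq : u * x * u⁻¹ = x := swap_unique H hd hx' hx hpu hxd hconj
  have hcomm : x * u = u * x := by
    rw [hui] at hEq
    calc x * u = (u * x * u) * u := by rw [hEq]
      _ = u * x * (u * u) := by group
      _ = u * x := by rw [hu, mul_one]
  refine ⟨x, hx, hcomm, ?_, hxd⟩
  -- `u x` commutes with `d`
  have h1 : (u * x) * d * (u * x)⁻¹ = d := by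
    rw [mul_inv_rev, inv_eq H hx, hui]
    calc u * x * d * (x * u) = u * (x * d * x) * u := by group
      _ = u * (u * d * u) * u := by rw [hxx]
      _ = (u * u) * d * (u * u) := by group
      _ = d := by rw [hu, one_mul, mul_one]
  calc (u * x) * d = ((u * x) * d * (u * x)⁻¹) * (u * x) := by group
    _ = d * (u * x) := by rw [h1]

end

/-- An involution on a finite type of odd cardinality has a fixed point. -/
theorem exists_fixed_of_odd {α : Type*} [Finite α] (hodd : Odd (Nat.card α)) (f : Equiv.Perm α)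
    (hf : f * f = 1) : ∃ a, f a = a := by
  classical
  have : Fintype α := Fintype.ofFinite α
  have h2 : Fact (Nat.Prime 2) := ⟨Nat.prime_two⟩
  rw [Nat.card_eq_fintype_card] at hodd
  refine Equiv.Perm.exists_fixed_point_of_prime (p := 2) (n := 1) ?_ (σ := f) ?_
  · intro h
    exact (Nat.not_odd_iff_even.2 (even_iff_two_dvd.2 h)) hodd
  · rw [pow_one, pow_two, hf]

section

variable {G Ω : Type*} [Group G] [MulAction G Ω] {D : Set G} {p : G → Ω} (H : Hyp D p)

include H

/-- An involution fixing `a` commutes with some element of `D` whose point is `a`. -/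
theorem exists_commuting [Finite G] {a : Ω}
    (hodd : Odd (Nat.card {d : G // d ∈ D ∧ p d = a})) {u : G} (hu : u * u = 1)
    (hua : u • a = a) : ∃ d ∈ D, p d = a ∧ d * u = u * d := by
  have hui : u⁻¹ = u := inv_eq_of_mul_eq_one_left hu
  let f : {d : G // d ∈ D ∧ p d = a} → {d : G // d ∈ D ∧ p d = a} := fun d =>
    ⟨u * d.1 * u⁻¹, H.conj _ d.2.1 u, by rw [p_conj H d.2.1, d.2.2, hua]⟩
  have hff : ∀ d, f (f d) = d := by
    intro d
    apply Subtype.ext
    show u * (u * d.1 * u⁻¹) * u⁻¹ = d.1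
    rw [hui]
    calc u * (u * d.1 * u) * u = (u * u) * d.1 * (u * u) := by group
      _ = d.1 := by rw [hu, one_mul, mul_one]
  let F : Equiv.Perm {d : G // d ∈ D ∧ p d = a} := ⟨f, f, hff, hff⟩
  obtain ⟨d, hd⟩ := exists_fixed_of_odd hodd F (Equiv.ext hff)
  refine ⟨d.1, d.2.1, d.2.2, ?_⟩
  have h1 : u * d.1 * u⁻¹ = d.1 := congrArg Subtype.val hd
  calc d.1 * u = (u * d.1 * u⁻¹) * u := by rw [h1]
    _ = u * d.1 := by group

/-- Any two elements of `D` commuting with an involution `u` having at least two fixed points are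
conjugate by an element commuting with `u`. -/
theorem conj_in_centralizer [Finite G]
    (hodd : ∀ a : Ω, Odd (Nat.card {d : G // d ∈ D ∧ p d = a})) {u : G} (hu : u * u = 1)
    {a b : Ω} (hab : a ≠ b) (ha : u • a = a) (hb : u • b = b) {x y : G} (hx : x ∈ D) (hy : y ∈ D)
    (hxu : x * u = u * x) (hyu : y * u = u * y) : ∃ c : G, c * u = u * c ∧ c * x * c⁻¹ = y := by
  -- first the case of different points
  have key : ∀ x ∈ D, ∀ y ∈ D, x * u = u * x → y * u = u * y → p x ≠ p y →
      ∃ c : G, c * u = u * c ∧ c * x * c⁻¹ = y := by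
    intro x hx y hy hxu hyu hne
    obtain ⟨n, hn⟩ := odd_orderOf H hx hy hne
    refine ⟨x * (x * y) ^ (n + 1), ?_, ?_⟩
    · have h1 : (x * y) * u = u * (x * y) := by rw [mul_assoc, hyu, ← mul_assoc, hxu, mul_assoc]
      have h2 : (x * y) ^ (n + 1) * u = u * (x * y) ^ (n + 1) :=
        ((show Commute (x * y) u from h1).pow_left (n + 1))
      rw [mul_assoc, h2, ← mul_assoc, hxu, mul_assoc]
    · rw [inv_eq H (mul_pow_mem H hx hy _)]
      calc x * (x * y) ^ (n + 1) * x * (x * (x * y) ^ (n + 1))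
          = x * (x * y) ^ (n + 1) * (x * x) * (x * y) ^ (n + 1) := by group
        _ = x * ((x * y) ^ (n + 1) * (x * y) ^ (n + 1)) := by rw [H.sq x hx, mul_one, mul_assoc]
        _ = x * (x * y) := by
            congr 1
            rw [← pow_add, show n + 1 + (n + 1) = (2 * n + 1) + 1 by ring, ← hn, pow_succ,
              pow_orderOf_eq_one, one_mul]
        _ = y := by rw [← mul_assoc, H.sq x hx, one_mul]
  by_cases hne : p x = p y
  · -- choose a third element at a different point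
    obtain ⟨c0, hc0, hc0u⟩ : ∃ c0 : Ω, c0 ≠ p x ∧ u • c0 = c0 := by
      by_cases h : a = p x
      · exact ⟨b, fun hb' => hab (h.trans hb'.symm), hb⟩
      · exact ⟨a, h, ha⟩
    obtain ⟨w, hw, hwp, hwu⟩ := exists_commuting H (hodd c0) hu hc0u
    obtain ⟨c1, hc1, hc1'⟩ := key x hx w hw hxu hwu (by rw [hwp]; exact hc0.symm)
    obtain ⟨c2, hc2, hc2'⟩ := key w hw y hy hwu hyu (by rw [hwp, ← hne]; exact hc0)
    refine ⟨c2 * c1, by rw [mul_assoc, hc1, ← mul_assoc, hc2, mul_assoc], ?_⟩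
    rw [← hc2', ← hc1']
    group
  · exact key x hx y hy hxu hyu hne

/-- If the involution `u` fixes at least two points and moves some point and `x ∈ D` commutes with
`u`, then `u * x` has at least two fixed points. -/
theorem two_fixed_mul [Finite G]
    (hodd : ∀ a : Ω, Odd (Nat.card {d : G // d ∈ D ∧ p d = a})) {u : G} (hu : u * u = 1)
    {a b : Ω} (hab : a ≠ b) (ha : u • a = a) (hb : u • b = b) {c : Ω} (hc : u • c ≠ c)
    {x : G} (hx : x ∈ D) (hxu : x * u = u * x) :
    ∃ e f : Ω, e ≠ f ∧ (u * x) • e = e ∧ (u * x) • f = f := by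
  have hui : u⁻¹ = u := inv_eq_of_mul_eq_one_left hu
  -- an element of `D` with point `c`
  have hne : Nonempty {d : G // d ∈ D ∧ p d = c} := by
    have h := (hodd c).pos
    exact (Nat.card_pos_iff.1 h).1
  obtain ⟨⟨d, hd, hdc⟩⟩ := hne
  obtain ⟨y, hy, hyu, hyd, hyp⟩ := exists_commuting_swap H hd hu (by rw [hdc]; exact hc)
  -- `u y` fixes `c`
  have h1 : (u * y) • c = c := by
    rw [← hdc]; exact p_eq_of_comm H hd hyd
  -- `y` fixes a point fixed by `u`: its own point
  have h2 : u • p y = p y := p_eq_of_comm H hy hyu.symm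
  have h3 : (u * y) • p y = p y := by
    rw [mul_smul, (H.fix y hy _).2 rfl, h2]
  have hcy : c ≠ p y := by
    intro h
    rw [← h] at h2
    exact hc h2
  -- transport to `x`
  obtain ⟨g, hgu, hgx⟩ := conj_in_centralizer H hodd hu hab ha hb hy hx hyu hxu
  have h4 : u * x = g * (u * y) * g⁻¹ := by
    rw [← hgx]
    calc u * (g * y * g⁻¹) = (u * g) * y * g⁻¹ := by group
      _ = (g * u) * y * g⁻¹ := by rw [hgu]
      _ = g * (u * y) * g⁻¹ := by group
  refine ⟨g • c, g • p y, ?_, ?_, ?_⟩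
  · intro h
    exact hcy (smul_left_cancel g h)
  · rw [h4, mul_smul, mul_smul, inv_smul_smul, h1]
  · rw [h4, mul_smul, mul_smul, inv_smul_smul, h3]

/-- **Lemma LITE.** An involution with exactly one fixed point lies in `D`. -/
theorem mem_of_unique_fixed [Finite G]
    (hodd : ∀ a : Ω, Odd (Nat.card {d : G // d ∈ D ∧ p d = a}))
    (hker : ∀ v : G, v * v = 1 → (∀ a : Ω, v • a = a) → v = 1)
    {w : G} (hw : w * w = 1) (a : Ω) (hwa : ∀ b : Ω, w • b = b ↔ b = a) {c : Ω} (hca : c ≠ a) :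
    w ∈ D := by
  have hwc : w • c ≠ c := fun h => hca ((hwa c).1 h)
  have hne : Nonempty {d : G // d ∈ D ∧ p d = c} :=
    (Nat.card_pos_iff.1 (hodd c).pos).1
  obtain ⟨⟨d, hd, hdc⟩⟩ := hne
  obtain ⟨x, hx, hxw, hxd, hxp⟩ := exists_commuting_swap H hd hw (by rw [hdc]; exact hwc)
  -- `v = w x`
  by_cases hv1 : w * x = 1
  · have : w = x := by
      have h := eq_inv_of_mul_eq_one_left hv1
      rwa [inv_eq H hx] at h
    rwa [this]
  exfalso
  have hvv : (w * x) * (w * x) = 1 := by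
    calc (w * x) * (w * x) = w * (x * w) * x := by group
      _ = w * (w * x) * x := by rw [hxw]
      _ = (w * w) * (x * x) := by group
      _ = 1 := by rw [hw, H.sq x hx, one_mul]
  have hvc : (w * x) • c = c := by
    rw [← hdc]; exact p_eq_of_comm H hd hxd
  have hpx : p x = a := by
    have h : w • p x = p x := p_eq_of_comm H hx hxw.symm
    exact (hwa _).1 h
  have hva : (w * x) • a = a := by
    have h : x • a = a := by rw [← hpx]; exact (H.fix x hx _).2 rfl
    rw [mul_smul, h, (hwa a).2 rfl]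
  have hmove : ∃ e : Ω, (w * x) • e ≠ e := by
    by_contra hcon
    exact hv1 (hker _ hvv (by push Not at hcon; exact hcon))
  obtain ⟨e, he⟩ := hmove
  have hxv : x * (w * x) = (w * x) * x := by rw [← mul_assoc, hxw]
  obtain ⟨f1, f2, hf, hf1, hf2⟩ := two_fixed_mul H hodd hvv hca hvc hva he hx hxv
  have h5 : (w * x) * x = w := by rw [mul_assoc, H.sq x hx, mul_one]
  rw [h5] at hf1 hf2
  exact hf (((hwa _).1 hf1).trans ((hwa _).1 hf2).symm)

end

end Cfsg.Agent.R15.Lite
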