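import Mathlib
import Cfsg.Agent.R15.Lite

/-!
# Lemma LITE for a point stabilizer

`M` a proper subgroup of the simple group `G`, `z ∈ M` a 2-central involution with `g z g⁻¹ ∈ M → g ∈ M`, such that
`C_G(z e) ≤ M` for all conjugates `e ≠ z` of `z` commuting with `z`.  Then every involution `w ∈ M` with
`C_G(w) ≤ M` is a conjugate of `z`.
-/

set_option autoImplicit false

namespace Cfsg.Agent.R15.LiteFix

open Subgroup

theorem exists_conj_eq {X : Type*} [Group X] [Finite X] [IsSimpleGroup X] (P : Sylow 2 X)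
    (M : Subgroup X) (hM : M ≠ ⊤) {z v : X}
    (hzc : (P : Subgroup X) ≤ centralizer {z}) (hzz : z * z = 1) (hz1 : z ≠ 1) (hzM : z ∈ M)
    (hF1 : ∀ g : X, g * z * g⁻¹ ∈ M → g ∈ M)
    (hprod : ∀ e : X, (∃ g : X, g * z * g⁻¹ = e) → e ≠ z → z * e = e * z →
      centralizer {z * e} ≤ M)
    (hvv : v * v = 1) (hvM : v ∈ M) (hvC : centralizer {v} ≤ M) : ∃ g : X, g * z * g⁻¹ = v := by
  classical
  have hCz : centralizer {z} ≤ M := by
    intro g hg
    apply hF1
    rw [mem_centralizer_singleton_iff.1 hg, mul_inv_cancel_right]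
    exact hzM
  have hPM : (P : Subgroup X) ≤ M := hzc.trans hCz
  -- the class
  let D : Set X := {d | ∃ g : X, g * z * g⁻¹ = d}
  have hDc : ∀ d ∈ D, ∃ g : X, g * z * g⁻¹ = d := fun d hd => hd
  let pt : X → X ⧸ M := fun d => if h : ∃ g : X, g * z * g⁻¹ = d then
    ((Classical.choose h : X) : X ⧸ M) else ((1 : X) : X ⧸ M)
  have hsmul : ∀ (d h : X), d • ((h : X) : X ⧸ M) = ((h : X) : X ⧸ M) ↔ h⁻¹ * d * h ∈ M := by
    intro d h
    rw [show d • ((h : X) : X ⧸ M) = ((d * h : X) : X ⧸ M) from rfl, QuotientGroup.eq]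
    rw [← inv_mem_iff]
    have : ((d * h)⁻¹ * h)⁻¹ = h⁻¹ * d * h := by group
    rw [this]
  have hfix : ∀ d ∈ D, ∀ a : X ⧸ M, d • a = a ↔ a = pt d := by
    intro d hd a
    obtain ⟨h, rfl⟩ := QuotientGroup.mk_surjective a
    have hpt : pt d = ((Classical.choose (hDc d hd) : X) : X ⧸ M) := dif_pos (hDc d hd)
    have hg := Classical.choose_spec (hDc d hd)
    set g := Classical.choose (hDc d hd)
    rw [hpt]
    rw [hsmul, QuotientGroup.eq]
    constructor
    · intro h1
      apply hF1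
      rw [← hg] at h1
      have e : h⁻¹ * (g * z * g⁻¹) * h = (h⁻¹ * g) * z * (h⁻¹ * g)⁻¹ := by group
      rwa [e] at h1
    · intro h1
      rw [← hg]
      have e : h⁻¹ * (g * z * g⁻¹) * h = (h⁻¹ * g) * z * (h⁻¹ * g)⁻¹ := by group
      rw [e]
      exact M.mul_mem (M.mul_mem h1 hzM) (M.inv_mem h1)
  have hsq : ∀ d ∈ D, d * d = 1 := by
    rintro _ ⟨g, rfl⟩
    calc g * z * g⁻¹ * (g * z * g⁻¹) = g * (z * z) * g⁻¹ := by group
      _ = 1 := by rw [hzz]; group
  have hconj : ∀ d ∈ D, ∀ g : X, g * d * g⁻¹ ∈ D := by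
    rintro _ ⟨h, rfl⟩ g
    exact ⟨g * h, by group⟩
  have hcent : ∀ d ∈ D, ∀ e ∈ D, d ≠ e → d * e = e * d → ∀ g : X, g * (d * e) = (d * e) * g →
      g • pt d = pt d := by
    intro d hd e he hne hde g hg
    obtain ⟨x, hx⟩ := hd
    have hptx : pt d = ((x : X) : X ⧸ M) := by
      symm
      rw [← hfix d ⟨x, hx⟩, hsmul, ← hx]
      have : x⁻¹ * (x * z * x⁻¹) * x = z := by group
      rw [this]; exact hzM
    rw [hptx, hsmul]
    set e' := x⁻¹ * e * x with he'
    set g' := x⁻¹ * g * x with hg'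
    have he'D : e' ∈ D := by
      have := hconj e he x⁻¹
      simpa [he'] using this
    have hz' : z = x⁻¹ * d * x := by rw [← hx]; group
    have hne' : z ≠ e' := by
      intro h
      apply hne
      have h1 : x * z * x⁻¹ = x * e' * x⁻¹ := by rw [h]
      rw [hx] at h1
      rw [h1, he']; group
    have hcomm : z * e' = e' * z := by
      rw [hz', he']
      calc x⁻¹ * d * x * (x⁻¹ * e * x) = x⁻¹ * (d * e) * x := by group
        _ = x⁻¹ * (e * d) * x := by rw [hde]
        _ = x⁻¹ * e * x * (x⁻¹ * d * x) := by group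
    have hg'c : g' * (z * e') = (z * e') * g' := by
      rw [hz', he', hg']
      calc x⁻¹ * g * x * (x⁻¹ * d * x * (x⁻¹ * e * x)) = x⁻¹ * (g * (d * e)) * x := by group
        _ = x⁻¹ * ((d * e) * g) * x := by rw [hg]
        _ = _ := by group
    have hmem : g' ∈ M := hprod e' he'D (Ne.symm hne') hcomm (mem_centralizer_singleton_iff.2 hg'c)
    exact hmem
  have H : Lite.Hyp D pt :=
    { sq := hsq
      ne := by
        rintro _ ⟨g, rfl⟩ h
        apply hz1
        have := congrArg (fun t => g⁻¹ * t * g) h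
        simpa [mul_assoc] using this
      conj := hconj
      fix := hfix
      cent := hcent }
  -- oddness
  have hoddM : Odd (Nat.card {d : X // d ∈ D ∧ d ∈ M}) := by
    -- `M` acts transitively by conjugation
    let f : M → {d : X // d ∈ D ∧ d ∈ M} := fun m =>
      ⟨(m : X) * z * (m : X)⁻¹, ⟨m, rfl⟩, M.mul_mem (M.mul_mem m.2 hzM) (M.inv_mem m.2)⟩
    let K : Subgroup M := (centralizer ({z} : Set X)).subgroupOf M
    have hf : ∀ a b : M, f a = f b ↔ a⁻¹ * b ∈ K := by
      intro a b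
      rw [Subtype.ext_iff]
      show (a : X) * z * (a : X)⁻¹ = b * z * (b : X)⁻¹ ↔ _
      rw [mem_subgroupOf, mem_centralizer_singleton_iff]
      push_cast
      constructor
      · intro h
        calc (a : X)⁻¹ * b * z = (a : X)⁻¹ * (b * z * (b : X)⁻¹) * b := by group
          _ = (a : X)⁻¹ * (a * z * (a : X)⁻¹) * b := by rw [h]
          _ = z * ((a : X)⁻¹ * b) := by group
      · intro h
        calc (a : X) * z * (a : X)⁻¹ = a * (z * ((a : X)⁻¹ * b)) * (b : X)⁻¹ := by group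
          _ = a * ((a : X)⁻¹ * b * z) * (b : X)⁻¹ := by rw [h]
          _ = b * z * (b : X)⁻¹ := by group
    have hsurj : Function.Surjective f := by
      rintro ⟨_, ⟨g, rfl⟩, hgM⟩
      exact ⟨⟨g, hF1 g hgM⟩, rfl⟩
    have hcard : Nat.card {d : X // d ∈ D ∧ d ∈ M} = K.index := by
      rw [Subgroup.index]
      refine (Nat.card_congr (Equiv.ofBijective (Quotient.lift f ?_) ⟨?_, ?_⟩)).symm
      · intro a b hab
        exact (hf a b).2 (QuotientGroup.leftRel_apply.1 hab)
      · rintro ⟨a⟩ ⟨b⟩ hab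
        exact Quotient.sound (QuotientGroup.leftRel_apply.2 ((hf a b).1 hab))
      · intro d
        obtain ⟨a, rfl⟩ := hsurj d
        exact ⟨Quotient.mk _ a, rfl⟩
    rw [hcard]
    have h1 : ((P : Subgroup X).subgroupOf M) ≤ K := by
      intro a ha
      exact hzc ha
    have h2 := Subgroup.index_dvd_of_le h1
    have h3 : ¬ 2 ∣ ((P : Subgroup X).subgroupOf M).index := by
      have h4 := (P.subtype hPM).not_dvd_index
      exact h4
    rw [← Nat.not_even_iff_odd, even_iff_two_dvd]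
    exact fun h5 => h3 (h5.trans h2)
  have hodd : ∀ a : X ⧸ M, Odd (Nat.card {d : X // d ∈ D ∧ pt d = a}) := by
    intro a
    obtain ⟨h, rfl⟩ := QuotientGroup.mk_surjective a
    rw [← Nat.card_congr ?_]
    · exact hoddM
    refine ⟨fun d => ⟨h * d.1 * h⁻¹, hconj _ d.2.1 h, ?_⟩,
      fun d => ⟨h⁻¹ * d.1 * h, ?_, ?_⟩, ?_, ?_⟩
    · symm
      rw [← hfix _ (hconj _ d.2.1 h), hsmul]
      have e : h⁻¹ * (h * d.1 * h⁻¹) * h = d.1 := by group
      rw [e]; exact d.2.2
    · have := hconj _ d.2.1 h⁻¹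
      rwa [inv_inv] at this
    · have h1 := (hfix _ d.2.1 _).2 d.2.2.symm
      rwa [hsmul] at h1
    · intro d
      apply Subtype.ext
      show h⁻¹ * (h * d.1 * h⁻¹) * h = d.1
      group
    · intro d
      apply Subtype.ext
      show h * (h⁻¹ * d.1 * h) * h⁻¹ = d.1
      group
  have hker : ∀ u : X, u * u = 1 → (∀ a : X ⧸ M, u • a = a) → u = 1 := by
    intro u huu hu
    have huN : u ∈ M.normalCore := by
      intro g
      have h := hu ((g⁻¹ : X) : X ⧸ M)
      rw [hsmul, inv_inv] at h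
      exact h
    have hNn : M.normalCore.Normal := M.normalCore_normal
    rcases hNn.eq_bot_or_eq_top with h | h
    · rw [h] at huN; exact mem_bot.1 huN
    · exact absurd (top_le_iff.1 (h ▸ M.normalCore_le)) hM
  -- the involution `v`
  have hbase : pt z = ((1 : X) : X ⧸ M) := by
    symm
    rw [← hfix z ⟨1, by group⟩, hsmul]
    simpa using hzM
  have hvfix : ∀ b : X ⧸ M, v • b = b ↔ b = ((1 : X) : X ⧸ M) := by
    intro b
    constructor
    · intro hb
      obtain ⟨d, hd, hdb, hdv⟩ := Lite.exists_commuting H (hodd b) hvv hb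
      have hdM : d ∈ M := hvC (mem_centralizer_singleton_iff.2 hdv)
      have h1 : d • ((1 : X) : X ⧸ M) = ((1 : X) : X ⧸ M) := by
        rw [hsmul]; simpa using hdM
      rw [hfix d hd] at h1
      rw [h1, hdb]
    · rintro rfl
      rw [hsmul]
      simpa using hvM
  obtain ⟨g, hg⟩ : ∃ g : X, g ∉ M := by
    by_contra h
    push Not at h
    exact hM (eq_top_iff.2 fun g _ => h g)
  have hne : ((g : X) : X ⧸ M) ≠ ((1 : X) : X ⧸ M) := by
    intro h
    apply hg
    rw [QuotientGroup.eq] at h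
    simpa using M.inv_mem h
  obtain ⟨x, hx⟩ := Lite.mem_of_unique_fixed H hodd hker hvv _ hvfix hne
  exact ⟨x, hx⟩


end Cfsg.Agent.R15.LiteFix
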