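import Mathlib
import Cfsg.Prelude.Def_Transfer
import Cfsg.Agent.R15.Lite
import Cfsg.Agent.S1243
import Cfsg.Agent.ThreePrime.CoreConj
import Cfsg.Agent.SignalizersComponents.SFTwo
import Cfsg.Agent.SignalizersComponents.CoreOfCentralizer
import Cfsg.Agent.Transfer.PGroupNormal

/-!
# Theorem T1

`V` an elementary abelian 2-subgroup of rank at least 3, weakly closed in a Sylow 2-subgroup `P` of
`X`, all centralizers of involutions of `V` solvable and of the form `O(C(v)) N(V)`, the involutions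
of `Z(P)` are fused only into `V`, and not all involutions of `V` are conjugate to a central one.
Then `X = O(X) N_X(V)`.
-/

set_option autoImplicit false
open Cfsg

namespace Cfsg.Agent.R15.NormalElem

open Subgroup

/-- A 2-element of `M`, where `M` contains the Sylow subgroup `P`, is conjugate in `M` into `P`. -/
theorem exists_conj_mem {X : Type*} [Group X] [Finite X] {p : ℕ} [Fact p.Prime] (P : Sylow p X)
    (M : Subgroup X) (hPM : (P : Subgroup X) ≤ M) {x : X} (hx : x ∈ M) {k : ℕ}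
    (hxk : x ^ p ^ k = 1) : ∃ m ∈ M, m * x * m⁻¹ ∈ P := by
  -- the Sylow subgroup of `M`
  let PM : Sylow p M := P.subtype hPM
  have hz : IsPGroup p (zpowers (⟨x, hx⟩ : M)) := by
    rintro ⟨z, hz⟩
    obtain ⟨n, rfl⟩ := mem_zpowers_iff.mp hz
    refine ⟨k, ?_⟩
    apply Subtype.ext
    apply Subtype.ext
    show (x ^ n) ^ p ^ k = 1
    rw [← zpow_natCast, ← zpow_mul, mul_comm, zpow_mul, zpow_natCast, hxk, one_zpow]
  obtain ⟨Q, hQ⟩ := hz.exists_le_sylow
  obtain ⟨m, hm⟩ := MulAction.exists_smul_eq M Q PM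
  refine ⟨m, m.2, ?_⟩
  have h1 : m * ⟨x, hx⟩ * m⁻¹ ∈ (PM : Subgroup M) := by
    rw [← hm, Sylow.coe_subgroup_smul]
    exact ⟨⟨x, hx⟩, hQ (mem_zpowers _), rfl⟩
  exact h1

/-- If `x` and `g x g⁻¹` are both in the abelian subgroup `V`, weakly closed in `P`, they are
conjugate in `N(V)`. -/
theorem exists_normalizer_conj {X : Type*} [Group X] [Finite X] {p : ℕ} [Fact p.Prime]
    (P : Sylow p X) (V : Subgroup X) (hW : IsWeaklyClosed V (P : Subgroup X))
    (hVc : ∀ a ∈ V, ∀ b ∈ V, a * b = b * a) {x g : X} (hx : x ∈ V) (hgx : g * x * g⁻¹ ∈ V) :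
    ∃ n ∈ normalizer (V : Set X), n * x * n⁻¹ = g * x * g⁻¹ :=
  Cfsg.Agent.S1243.result P V hW x g (fun a ha => hVc a ha x hx) (fun a ha => hVc a ha _ hgx)

/-- Membership criterion: if `x` is a central `2`-element of `P` fused only into `V`, and `M`
contains `C(x)` and `N(V)`, then `g x g⁻¹ ∈ M` implies `g ∈ M`. -/
theorem mem_of_conj_mem {X : Type*} [Group X] [Finite X] (P : Sylow 2 X) (V : Subgroup X)
    (hW : IsWeaklyClosed V (P : Subgroup X)) (hVc : ∀ a ∈ V, ∀ b ∈ V, a * b = b * a)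
    (M : Subgroup X) (hN : normalizer (V : Set X) ≤ M) {x : X} (hxx : x * x = 1)
    (hxP : (P : Subgroup X) ≤ centralizer {x}) (hxV : x ∈ V)
    (hfus : ∀ g : X, g * x * g⁻¹ ∈ P → g * x * g⁻¹ ∈ V)
    (hC : centralizer {x} ≤ M) {g : X} (hg : g * x * g⁻¹ ∈ M) : g ∈ M := by
  have hPM : (P : Subgroup X) ≤ M := hxP.trans hC
  have hpow : (g * x * g⁻¹) ^ 2 ^ 1 = 1 := by
    rw [pow_one, pow_two]
    calc g * x * g⁻¹ * (g * x * g⁻¹) = g * (x * x) * g⁻¹ := by group
      _ = 1 := by rw [hxx]; group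
  obtain ⟨m, hm, hmP⟩ := exists_conj_mem P M hPM hg hpow
  have e : m * (g * x * g⁻¹) * m⁻¹ = (m * g) * x * (m * g)⁻¹ := by group
  rw [e] at hmP
  have hV := hfus _ hmP
  obtain ⟨n, hn, hnx⟩ := exists_normalizer_conj P V hW hVc hxV hV
  have hc : n⁻¹ * (m * g) ∈ centralizer ({x} : Set X) := by
    rw [mem_centralizer_singleton_iff]
    have h1 : (m * g) * x = n * x * n⁻¹ * (m * g) := by rw [hnx]; group
    calc n⁻¹ * (m * g) * x = n⁻¹ * ((m * g) * x) := by group
      _ = n⁻¹ * (n * x * n⁻¹ * (m * g)) := by rw [h1]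
      _ = x * (n⁻¹ * (m * g)) := by group
  have h2 := M.mul_mem (M.mul_mem (M.inv_mem hm) (hN hn)) (hC hc)
  have e2 : m⁻¹ * n * (n⁻¹ * (m * g)) = g := by group
  rwa [e2] at h2

/-- A subgroup containing `N(V)` and all `C(v)`, `v ∈ V#`, is the whole group. -/
theorem eq_top_of_contains {X : Type*} [Group X] [Finite X] (P : Sylow 2 X) (V : Subgroup X)
    (hW : IsWeaklyClosed V (P : Subgroup X)) (hVc : ∀ a ∈ V, ∀ b ∈ V, a * b = b * a)
    (hV2 : ∀ a ∈ V, a * a = 1)
    (hfus : ∀ x : X, x * x = 1 → (P : Subgroup X) ≤ centralizer {x} → x ∈ P →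
      ∀ g : X, g * x * g⁻¹ ∈ P → g * x * g⁻¹ ∈ V)
    {z v : X} (hzP : z ∈ P) (hzc : (P : Subgroup X) ≤ centralizer {z}) (hzz : z * z = 1)
    (hz1 : z ≠ 1) (hv : v ∈ V) (hv1 : v ≠ 1) (hzv : ∀ g : X, g * z * g⁻¹ ≠ v)
    (M : Subgroup X) (hN : normalizer (V : Set X) ≤ M)
    (hC : ∀ a ∈ V, a ≠ 1 → centralizer {a} ≤ M) : M = ⊤ := by
  classical
  by_contra hM
  have hVP : V ≤ P := hW.1
  have hzV : z ∈ V := by
    have := hfus z hzz hzc hzP 1 (by simpa using hzP)
    simpa using this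
  have hCz : centralizer {z} ≤ M := hC z hzV hz1
  have hPM : (P : Subgroup X) ≤ M := hzc.trans hCz
  have hzM : z ∈ M := hPM hzP
  have hF1 : ∀ g : X, g * z * g⁻¹ ∈ M → g ∈ M := fun g hg =>
    mem_of_conj_mem P V hW hVc M hN hzz hzc hzV (hfus z hzz hzc hzP) hCz hg
  -- the class
  let D : Set X := {d | ∃ g : X, g * z * g⁻¹ = d}
  have hDc : ∀ d ∈ D, ∃ g : X, g * z * g⁻¹ = d := fun d hd => hd
  let pt : X → X ⧸ M := fun d => if h : ∃ g : X, g * z * g⁻¹ = d then
    ((Classical.choose h : X) : X ⧸ M) else ((1 : X) : X ⧸ M)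
  have hsmul : ∀ (d h : X), d • ((h : X) : X ⧸ M) = ((h : X) : X ⧸ M) ↔ h⁻¹ * d * h ∈ M := by
    intro d h
    rw [show d • ((h : X) : X ⧸ M) = ((d * h : X) : X ⧸ M) from rfl, QuotientGroup.eq]
    rw [← inv_mem_iff]
    have : ((d * h)⁻¹ * h)⁻¹ = h⁻¹ * d * h := by group
    rw [this]
  have hfix : ∀ d ∈ D, ∀ a : X ⧸ M, d • a = a ↔ a = pt d := by
    intro d hd a
    obtain ⟨h, rfl⟩ := QuotientGroup.mk_surjective a
    have hpt : pt d = ((Classical.choose (hDc d hd) : X) : X ⧸ M) := dif_pos (hDc d hd)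
    have hg := Classical.choose_spec (hDc d hd)
    set g := Classical.choose (hDc d hd)
    rw [hpt]
    rw [hsmul, QuotientGroup.eq]
    constructor
    · intro h1
      apply hF1
      rw [← hg] at h1
      have e : h⁻¹ * (g * z * g⁻¹) * h = (h⁻¹ * g) * z * (h⁻¹ * g)⁻¹ := by group
      rwa [e] at h1
    · intro h1
      rw [← hg]
      have e : h⁻¹ * (g * z * g⁻¹) * h = (h⁻¹ * g) * z * (h⁻¹ * g)⁻¹ := by group
      rw [e]
      exact M.mul_mem (M.mul_mem h1 hzM) (M.inv_mem h1)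
  have hsq : ∀ d ∈ D, d * d = 1 := by
    rintro _ ⟨g, rfl⟩
    calc g * z * g⁻¹ * (g * z * g⁻¹) = g * (z * z) * g⁻¹ := by group
      _ = 1 := by rw [hzz]; group
  have hconj : ∀ d ∈ D, ∀ g : X, g * d * g⁻¹ ∈ D := by
    rintro _ ⟨h, rfl⟩ g
    exact ⟨g * h, by group⟩
  have hcent : ∀ d ∈ D, ∀ e ∈ D, d ≠ e → d * e = e * d → ∀ g : X, g * (d * e) = (d * e) * g →
      g • pt d = pt d := by
    intro d hd e he hne hde g hg
    obtain ⟨x, hx⟩ := hd
    have hptx : pt d = ((x : X) : X ⧸ M) := by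
      symm
      rw [← hfix d ⟨x, hx⟩, hsmul, ← hx]
      have : x⁻¹ * (x * z * x⁻¹) * x = z := by group
      rw [this]; exact hzM
    rw [hptx, hsmul]
    -- translate to `z`
    set e' := x⁻¹ * e * x with he'
    set g' := x⁻¹ * g * x with hg'
    have he'D : e' ∈ D := by
      have := hconj e he x⁻¹
      simpa [he'] using this
    have hz' : z = x⁻¹ * d * x := by rw [← hx]; group
    have hne' : z ≠ e' := by
      intro h
      apply hne
      have h1 : x * z * x⁻¹ = x * e' * x⁻¹ := by rw [h]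
      rw [hx] at h1
      rw [h1, he']; group
    have hcomm : z * e' = e' * z := by
      rw [hz', he']
      calc x⁻¹ * d * x * (x⁻¹ * e * x) = x⁻¹ * (d * e) * x := by group
        _ = x⁻¹ * (e * d) * x := by rw [hde]
        _ = x⁻¹ * e * x * (x⁻¹ * d * x) := by group
    have hg'c : g' * (z * e') = (z * e') * g' := by
      rw [hz', he', hg']
      calc x⁻¹ * g * x * (x⁻¹ * d * x * (x⁻¹ * e * x)) = x⁻¹ * (g * (d * e)) * x := by group
        _ = x⁻¹ * ((d * e) * g) * x := by rw [hg]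
        _ = _ := by group
    have he'C : e' ∈ centralizer ({z} : Set X) := mem_centralizer_singleton_iff.2 hcomm.symm
    have hpow : e' ^ 2 ^ 1 = 1 := by rw [pow_one, pow_two]; exact hsq e' he'D
    obtain ⟨c, hc, hcP⟩ := exists_conj_mem P (centralizer {z}) hzc he'C hpow
    obtain ⟨y, hy⟩ := he'D
    have hcV : c * e' * c⁻¹ ∈ V := by
      rw [← hy] at hcP ⊢
      have e1 : c * (y * z * y⁻¹) * c⁻¹ = (c * y) * z * (c * y)⁻¹ := by group
      rw [e1] at hcP ⊢
      exact hfus z hzz hzc hzP _ hcP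
    have hcz : c * z = z * c := mem_centralizer_singleton_iff.1 hc
    have hprodV : c * (z * e') * c⁻¹ ∈ V := by
      have e1 : c * (z * e') * c⁻¹ = z * (c * e' * c⁻¹) := by
        calc c * (z * e') * c⁻¹ = (c * z) * e' * c⁻¹ := by group
          _ = (z * c) * e' * c⁻¹ := by rw [hcz]
          _ = _ := by group
      rw [e1]
      exact V.mul_mem hzV hcV
    have hprod1 : c * (z * e') * c⁻¹ ≠ 1 := by
      intro h
      have h1 : z * e' = 1 := by
        have := congrArg (fun t => c⁻¹ * t * c) h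
        simpa [mul_assoc] using this
      apply hne'
      have h2 : e' = z⁻¹ := eq_inv_of_mul_eq_one_right h1
      rw [h2, inv_eq_of_mul_eq_one_left hzz]
    have hcM : c ∈ M := hCz hc
    have hmem : c * g' * c⁻¹ ∈ M := by
      apply hC _ hprodV hprod1
      rw [mem_centralizer_singleton_iff]
      calc c * g' * c⁻¹ * (c * (z * e') * c⁻¹) = c * (g' * (z * e')) * c⁻¹ := by group
        _ = c * ((z * e') * g') * c⁻¹ := by rw [hg'c]
        _ = _ := by group
    have h3 := M.mul_mem (M.mul_mem (M.inv_mem hcM) hmem) hcM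
    have e3 : c⁻¹ * (c * g' * c⁻¹) * c = g' := by group
    rwa [e3] at h3
  have H : Lite.Hyp D pt :=
    { sq := hsq
      ne := by
        rintro _ ⟨g, rfl⟩ h
        apply hz1
        have := congrArg (fun t => g⁻¹ * t * g) h
        simpa [mul_assoc] using this
      conj := hconj
      fix := hfix
      cent := hcent }
  -- oddness
  have hoddM : Odd (Nat.card {d : X // d ∈ D ∧ d ∈ M}) := by
    -- `M` acts transitively by conjugation
    let f : M → {d : X // d ∈ D ∧ d ∈ M} := fun m =>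
      ⟨(m : X) * z * (m : X)⁻¹, ⟨m, rfl⟩, M.mul_mem (M.mul_mem m.2 hzM) (M.inv_mem m.2)⟩
    let K : Subgroup M := (centralizer ({z} : Set X)).subgroupOf M
    have hf : ∀ a b : M, f a = f b ↔ a⁻¹ * b ∈ K := by
      intro a b
      rw [Subtype.ext_iff]
      show (a : X) * z * (a : X)⁻¹ = b * z * (b : X)⁻¹ ↔ _
      rw [mem_subgroupOf, mem_centralizer_singleton_iff]
      push_cast
      constructor
      · intro h
        calc (a : X)⁻¹ * b * z = (a : X)⁻¹ * (b * z * (b : X)⁻¹) * b := by group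
          _ = (a : X)⁻¹ * (a * z * (a : X)⁻¹) * b := by rw [h]
          _ = z * ((a : X)⁻¹ * b) := by group
      · intro h
        calc (a : X) * z * (a : X)⁻¹ = a * (z * ((a : X)⁻¹ * b)) * (b : X)⁻¹ := by group
          _ = a * ((a : X)⁻¹ * b * z) * (b : X)⁻¹ := by rw [h]
          _ = b * z * (b : X)⁻¹ := by group
    have hsurj : Function.Surjective f := by
      rintro ⟨_, ⟨g, rfl⟩, hgM⟩
      exact ⟨⟨g, hF1 g hgM⟩, rfl⟩
    have hcard : Nat.card {d : X // d ∈ D ∧ d ∈ M} = K.index := by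
      rw [Subgroup.index]
      refine (Nat.card_congr (Equiv.ofBijective (Quotient.lift f ?_) ⟨?_, ?_⟩)).symm
      · intro a b hab
        exact (hf a b).2 (QuotientGroup.leftRel_apply.1 hab)
      · rintro ⟨a⟩ ⟨b⟩ hab
        exact Quotient.sound (QuotientGroup.leftRel_apply.2 ((hf a b).1 hab))
      · intro d
        obtain ⟨a, rfl⟩ := hsurj d
        exact ⟨Quotient.mk _ a, rfl⟩
    rw [hcard]
    have h1 : ((P : Subgroup X).subgroupOf M) ≤ K := by
      intro a ha
      exact hzc ha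
    have h2 := Subgroup.index_dvd_of_le h1
    have h3 : ¬ 2 ∣ ((P : Subgroup X).subgroupOf M).index := by
      have h4 := (P.subtype hPM).not_dvd_index
      exact h4
    rw [← Nat.not_even_iff_odd, even_iff_two_dvd]
    exact fun h5 => h3 (h5.trans h2)
  have hodd : ∀ a : X ⧸ M, Odd (Nat.card {d : X // d ∈ D ∧ pt d = a}) := by
    intro a
    obtain ⟨h, rfl⟩ := QuotientGroup.mk_surjective a
    rw [← Nat.card_congr ?_]
    · exact hoddM
    refine ⟨fun d => ⟨h * d.1 * h⁻¹, hconj _ d.2.1 h, ?_⟩,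
      fun d => ⟨h⁻¹ * d.1 * h, ?_, ?_⟩, ?_, ?_⟩
    · symm
      rw [← hfix _ (hconj _ d.2.1 h), hsmul]
      have e : h⁻¹ * (h * d.1 * h⁻¹) * h = d.1 := by group
      rw [e]; exact d.2.2
    · have := hconj _ d.2.1 h⁻¹
      rwa [inv_inv] at this
    · have h1 := (hfix _ d.2.1 _).2 d.2.2.symm
      rwa [hsmul] at h1
    · intro d
      apply Subtype.ext
      show h⁻¹ * (h * d.1 * h⁻¹) * h = d.1
      group
    · intro d
      apply Subtype.ext
      show h * (h⁻¹ * d.1 * h) * h⁻¹ = d.1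
      group
  -- the kernel
  have hker : ∀ u : X, u * u = 1 → (∀ a : X ⧸ M, u • a = a) → u = 1 := by
    intro u huu hu
    by_contra hu1
    -- the normal core of `M` has even order
    let N : Subgroup X := M.normalCore
    have huN : u ∈ N := by
      intro g
      have h := hu ((g⁻¹ : X) : X ⧸ M)
      rw [hsmul, inv_inv] at h
      exact h
    have hpow : u ^ 2 ^ 1 = 1 := by rw [pow_one, pow_two]; exact huu
    obtain ⟨m, hm, hmP⟩ := exists_conj_mem P ⊤ le_top (mem_top u) hpow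
    have hNn : N.Normal := M.normalCore_normal
    let K : Subgroup (P : Subgroup X) := N.subgroupOf P
    have hK : K ≠ ⊥ := by
      intro h
      have h1 : (⟨m * u * m⁻¹, hmP⟩ : (P : Subgroup X)) ∈ K := hNn.conj_mem u huN m
      rw [h, mem_bot] at h1
      apply hu1
      have h2 : m * u * m⁻¹ = 1 := congrArg Subtype.val h1
      have := congrArg (fun t => m⁻¹ * t * m) h2
      simpa [mul_assoc] using this
    have hKn : K.Normal := hNn.subgroupOf _
    obtain ⟨x, hxK, hxc, hxo⟩ :=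
      Cfsg.Agent.Transfer.PGroupNormal.exists_mem_inf_center_orderOf P.2 K hK
    have hxx : (x : X) * x = 1 := by
      have h1 := pow_orderOf_eq_one x
      rw [hxo, pow_two] at h1
      exact congrArg Subtype.val h1
    have hx1 : (x : X) ≠ 1 := by
      intro h
      have : x = 1 := Subtype.ext h
      rw [this, orderOf_one] at hxo
      norm_num at hxo
    have hxc' : (P : Subgroup X) ≤ centralizer {(x : X)} := by
      intro y hy
      rw [mem_centralizer_singleton_iff]
      exact congrArg Subtype.val ((mem_center_iff.1 hxc) ⟨y, hy⟩)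
    have hf := hfus x hxx hxc' x.2
    have hxV : (x : X) ∈ V := by
      have := hf 1 (by simp)
      simpa using this
    apply hM
    rw [eq_top_iff]
    intro g _
    refine mem_of_conj_mem P V hW hVc M hN hxx hxc' hxV hf (hC x hxV hx1) (g := g) ?_
    have h1 : g * (x : X) * g⁻¹ ∈ N := hNn.conj_mem _ hxK g
    exact M.normalCore_le h1
  -- the involution `v`
  have hvv : v * v = 1 := hV2 v hv
  have hbase : pt z = ((1 : X) : X ⧸ M) := by
    symm
    rw [← hfix z ⟨1, by group⟩, hsmul]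
    simpa using hzM
  have hvfix : ∀ b : X ⧸ M, v • b = b ↔ b = ((1 : X) : X ⧸ M) := by
    intro b
    constructor
    · intro hb
      obtain ⟨d, hd, hdb, hdv⟩ := Lite.exists_commuting H (hodd b) hvv hb
      have hdM : d ∈ M := hC v hv hv1 (mem_centralizer_singleton_iff.2 hdv)
      have h1 : d • ((1 : X) : X ⧸ M) = ((1 : X) : X ⧸ M) := by
        rw [hsmul]; simpa using hdM
      rw [hfix d hd] at h1
      rw [h1, hdb]
    · rintro rfl
      rw [hsmul]
      have : v ∈ M := hPM (hVP hv)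
      simpa using this
  obtain ⟨g, hg⟩ : ∃ g : X, g ∉ M := by
    by_contra h
    push Not at h
    exact hM (eq_top_iff.2 fun g _ => h g)
  have hne : ((g : X) : X ⧸ M) ≠ ((1 : X) : X ⧸ M) := by
    intro h
    apply hg
    rw [QuotientGroup.eq] at h
    simpa using M.inv_mem h
  obtain ⟨x, hx⟩ := Lite.mem_of_unique_fixed H hodd hker hvv _ hvfix hne
  exact hzv x hx

/-- closure of the core functor on an elementary abelian 2-subgroup of rank at least 3 all of
whose involutions have solvable centralizers -/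
theorem exists_closure {X : Type*} [Group X] [Finite X] (V : Subgroup X)
    (hVc : ∀ a ∈ V, ∀ b ∈ V, a * b = b * a) (hV2 : ∀ a ∈ V, a * a = 1)
    (hVr : 8 ≤ Nat.card V)
    (hsolv : ∀ a ∈ V, a ≠ 1 → Group.IsSolvable ↥(centralizer ({a} : Set X))) :
    ∃ W : Subgroup X, (Nat.card W).Coprime 2 ∧
      (∀ a ∈ V, a ≠ 1 → W ⊓ centralizer {a} = centralizerPPrimeCore 2 a) ∧
      normalizer (V : Set X) ≤ normalizer (W : Set X) := by
  have h2 : Fact (Nat.Prime 2) := ⟨Nat.prime_two⟩
  have hV2' : ∀ a ∈ V, a ^ 2 = 1 := fun a ha => by rw [pow_two]; exact hV2 a ha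
  have hmain := Cfsg.Agent.SignalizersComponents.SFTwo.result V hVc hV2' (by norm_num; exact hVr)
    (fun a => centralizerPPrimeCore 2 a)
    (fun a _ _ => Cfsg.Agent.ThreePrime.CoreConj.core_le 2 a)
    (fun a _ _ => Cfsg.Agent.ThreePrime.CoreConj.core_card 2 a)
    (fun a ha _ b hb x hx => by
      have h := Cfsg.Agent.ThreePrime.CoreConj.core_normalized 2 a
        (mem_centralizer_singleton_iff.2 (hVc b hb a ha))
      exact (mem_normalizer_iff.1 h x).1 hx)
    (fun a ha ha1 => by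
      have hs := hsolv a ha ha1
      exact Group.isSolvable_of_isSolvable_injective
        (inclusion_injective (Cfsg.Agent.ThreePrime.CoreConj.core_le 2 a)))
    (fun a ha _ b hb hb1 =>
      Cfsg.Agent.SignalizersComponents.CoreOfCentralizer.balance_of_isSolvable a b (hVc a ha b hb)
        1 (by simpa using hV2' a ha) (hsolv b hb hb1))
  refine ⟨⨆ a : {a : X // a ∈ V ∧ a ≠ 1}, centralizerPPrimeCore 2 (a : X), ?_, hmain.2, ?_⟩
  · rw [Nat.coprime_comm]
    exact (Nat.Prime.coprime_iff_not_dvd Nat.prime_two).2 hmain.1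
  · -- equivariance
    have key : ∀ n ∈ normalizer (V : Set X),
        (⨆ a : {a : X // a ∈ V ∧ a ≠ 1}, centralizerPPrimeCore 2 (a : X)).map
          (MulAut.conj n).toMonoidHom ≤
        ⨆ a : {a : X // a ∈ V ∧ a ≠ 1}, centralizerPPrimeCore 2 (a : X) := by
      intro n hn
      rw [Subgroup.map_iSup]
      refine iSup_le ?_
      rintro ⟨a, ha, ha1⟩
      rw [← Cfsg.Agent.ThreePrime.CoreConj.core_conj 2 a n]
      refine le_iSup (fun a : {a : X // a ∈ V ∧ a ≠ 1} => centralizerPPrimeCore 2 (a : X))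
        ⟨n * a * n⁻¹, (mem_normalizer_iff.1 hn a).1 ha, ?_⟩
      intro h
      apply ha1
      have := congrArg (fun t => n⁻¹ * t * n) h
      simpa [mul_assoc] using this
    intro n hn
    rw [mem_normalizer_iff]
    intro x
    constructor
    · intro hx
      exact key n hn ⟨x, hx, rfl⟩
    · intro hx
      have h := key n⁻¹ ((normalizer (V : Set X)).inv_mem hn) ⟨_, hx, rfl⟩
      have e : (MulAut.conj n⁻¹).toMonoidHom (n * x * n⁻¹) = x := by
        show n⁻¹ * (n * x * n⁻¹) * n⁻¹⁻¹ = x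
        group
      rwa [e] at h

/-- **Theorem T1.** -/
theorem sup_normalizer_eq_top {X : Type*} [Group X] [Finite X] (P : Sylow 2 X) (V : Subgroup X)
    (hW : IsWeaklyClosed V (P : Subgroup X)) (hVc : ∀ a ∈ V, ∀ b ∈ V, a * b = b * a)
    (hV2 : ∀ a ∈ V, a * a = 1) (hVr : 8 ≤ Nat.card V)
    (hfus : ∀ x : X, x * x = 1 → (P : Subgroup X) ≤ centralizer {x} → x ∈ P →
      ∀ g : X, g * x * g⁻¹ ∈ P → g * x * g⁻¹ ∈ V)
    {z v : X} (hzP : z ∈ P) (hzc : (P : Subgroup X) ≤ centralizer {z}) (hzz : z * z = 1)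
    (hz1 : z ≠ 1) (hv : v ∈ V) (hv1 : v ≠ 1) (hzv : ∀ g : X, g * z * g⁻¹ ≠ v)
    (hsolv : ∀ a ∈ V, a ≠ 1 → Group.IsSolvable ↥(centralizer ({a} : Set X)))
    (hnorm : ∀ a ∈ V, a ≠ 1 →
      centralizer {a} ≤ centralizerPPrimeCore 2 a ⊔ normalizer (V : Set X)) :
    pPrimeCore 2 X ⊔ normalizer (V : Set X) = ⊤ := by
  have h2 : Fact (Nat.Prime 2) := ⟨Nat.prime_two⟩
  obtain ⟨W, hWodd, hWc, hWN⟩ := exists_closure V hVc hV2 hVr hsolv
  have hle : ∀ a ∈ V, a ≠ 1 → centralizerPPrimeCore 2 a ≤ W := fun a ha ha1 => by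
    rw [← hWc a ha ha1]; exact inf_le_left
  have h1 : normalizer (W : Set X) = ⊤ := by
    refine eq_top_of_contains P V hW hVc hV2 hfus hzP hzc hzz hz1 hv hv1 hzv _ hWN ?_
    intro a ha ha1
    exact (hnorm a ha ha1).trans (sup_le ((hle a ha ha1).trans le_normalizer) hWN)
  have hWn : W.Normal := normalizer_eq_top_iff.1 h1
  have hWle : W ≤ pPrimeCore 2 X := Cfsg.Agent.Lib.Cores.le_pPrimeCore hWn hWodd
  refine eq_top_of_contains P V hW hVc hV2 hfus hzP hzc hzz hz1 hv hv1 hzv _ le_sup_right ?_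
  intro a ha ha1
  exact (hnorm a ha ha1).trans
    (sup_le_sup_right ((hle a ha ha1).trans hWle) _)

end Cfsg.Agent.R15.NormalElem
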